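import Mathlib.Data.Nat.Choose.Lucas
import Mathlib.Data.Nat.Choose.Factorization
import Mathlib.NumberTheory.PrimeCounting
import Cfsg.Agent.EqLemmas

/-!
# The largest prime divisor of a binomial coefficient

* `exists_large_prime` : a weak Sylvester theorem, some prime divisor of `C(m,k)` exceeds `min k √m`
* `top_prime` : the largest prime divisor `r` has `m % r < k % r`
-/

set_option autoImplicit false

namespace Cfsg.Agent.AltDerange

open Finset

/-- The number of primes up to `s`. -/
def npr (s : ℕ) : ℕ := ((range (s + 1)).filter Nat.Prime).card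

theorem npr_add_two (s : ℕ) (hs : 2 ≤ s) : npr (s + 2) ≤ npr s + 1 := by
  have e : ∀ t, range (t + 1) = insert t (range t) := fun t => range_add_one
  rw [npr, npr, show s + 2 + 1 = (s + 2) + 1 from rfl, e (s + 2), e (s + 1), filter_insert,
    filter_insert]
  by_cases h1 : (s + 1).Prime
  · have h2 : ¬ (s + 2).Prime := fun h2 => by
      rcases Nat.even_or_odd (s + 1) with h | h
      · have := h1.eq_one_or_self_of_dvd 2 h.two_dvd; omega
      · have := h2.eq_one_or_self_of_dvd 2 (h.add_odd odd_one).two_dvd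
        omega
    rw [if_pos h1, if_neg h2]
    exact card_insert_le _ _
  · rw [if_neg h1]
    split_ifs with h
    · exact card_insert_le _ _
    · exact Nat.le_succ _

theorem two_mul_npr_le : ∀ s, 8 ≤ s → 2 * npr s ≤ s := by
  intro s
  induction s using Nat.strong_induction_on with
  | _ s ih =>
    intro hs
    rcases (by omega : s = 8 ∨ s = 9 ∨ 10 ≤ s) with rfl | rfl | h
    · decide +kernel
    · decide +kernel
    · obtain ⟨t, rfl⟩ : ∃ t, s = t + 2 := ⟨s - 2, by omega⟩
      have := ih t (by omega) (by omega)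
      have := npr_add_two t (by omega)
      omega

theorem choose_mono_left {m : ℕ} {s k : ℕ} (hsk : s ≤ k) (hk : 2 * k ≤ m) :
    m.choose s ≤ m.choose k := by
  induction k, hsk using Nat.le_induction with
  | base => exact le_rfl
  | succ k _ ih => exact (ih (by omega)).trans (Nat.choose_le_succ_of_lt_half_left (by omega))

theorem pow_lt_choose_mul {m s : ℕ} (hs : 2 ≤ s) (hsm : s < m) :
    m ^ s < m.choose s * s ^ s := by
  have key : ∀ j, 2 ≤ j → j ≤ s → m ^ j * s.descFactorial j < m.descFactorial j * s ^ j := by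
    intro j hj
    induction j, hj using Nat.le_induction with
    | base =>
      intro _
      simp only [Nat.descFactorial_succ, Nat.descFactorial_zero]
      obtain ⟨s', rfl⟩ : ∃ s', s = s' + 1 := ⟨s - 1, by omega⟩
      obtain ⟨m', rfl⟩ : ∃ m', m = m' + 1 := ⟨m - 1, by omega⟩
      simp only [Nat.add_sub_cancel, Nat.sub_zero, mul_one]
      have h1 : (m' + 1) * s' < m' * (s' + 1) := by ring_nf; omega
      calc (m' + 1) ^ 2 * (s' * (s' + 1)) = (m' + 1) * (s' + 1) * ((m' + 1) * s') := by ring
        _ < (m' + 1) * (s' + 1) * (m' * (s' + 1)) :=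
          Nat.mul_lt_mul_of_pos_left h1 (by positivity)
        _ = _ := by ring
    | succ j _ ih =>
      intro hjs
      rw [Nat.descFactorial_succ, Nat.descFactorial_succ]
      have h1 : m * (s - j) ≤ s * (m - j) := by
        rw [Nat.mul_sub, Nat.mul_sub, mul_comm m s]
        exact Nat.sub_le_sub_left (Nat.mul_le_mul_right j hsm.le) _
      calc m ^ (j + 1) * ((s - j) * s.descFactorial j)
          = m ^ j * s.descFactorial j * (m * (s - j)) := by ring
        _ < m.descFactorial j * s ^ j * (m * (s - j)) :=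
          Nat.mul_lt_mul_of_pos_right (ih (by omega)) (Nat.mul_pos (by omega) (by omega))
        _ ≤ m.descFactorial j * s ^ j * (s * (m - j)) := Nat.mul_le_mul_left _ h1
        _ = _ := by ring
  have h := key s hs le_rfl
  rw [Nat.descFactorial_self, Nat.descFactorial_eq_factorial_mul_choose,
    mul_comm (s.factorial), mul_assoc, mul_comm (s.factorial) (s ^ s), ← mul_assoc] at h
  exact Nat.lt_of_mul_lt_mul_right h

theorem pow_npr_lt_choose {m s k : ℕ} (hs : 2 ≤ s) (hsq : s * s ≤ m) (hsk : s ≤ k) (hk : 2 * k ≤ m) :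
    m ^ npr s < m.choose k := by
  refine lt_of_lt_of_le ?_ (choose_mono_left hsk hk)
  have hm : 0 < m := by nlinarith
  by_cases hgood : 2 * npr s ≤ s
  · by_contra hle
    have h1 := pow_lt_choose_mul hs (show s < m by nlinarith)
    have h2 : m ^ s < m ^ npr s * s ^ s := h1.trans_le (Nat.mul_le_mul_right _ (not_lt.1 hle))
    have h3 : m ^ npr s * s ^ s ≤ m ^ s := by
      calc m ^ npr s * s ^ s ≤ m ^ npr s * s ^ (2 * (s - npr s)) :=
            Nat.mul_le_mul_left _ (Nat.pow_le_pow_right (by omega) (by omega))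
        _ ≤ m ^ npr s * m ^ (s - npr s) := by
            rw [pow_mul, pow_two]
            exact Nat.mul_le_mul_left _ (Nat.pow_le_pow_left hsq _)
        _ = m ^ s := by rw [← pow_add]; congr 1; omega
    omega
  · have hs8 : s < 8 := by by_contra h; exact hgood (two_mul_npr_le s (by omega))
    have e := Nat.descFactorial_eq_factorial_mul_choose m s
    interval_cases s
    all_goals first | exact absurd (by decide +kernel) hgood | skip
    all_goals simp only [Nat.descFactorial_succ, Nat.descFactorial_zero, mul_one, Nat.sub_zero] at e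
    · obtain ⟨d, rfl⟩ : ∃ d, m = d + 9 := ⟨m - 9, by omega⟩
      rw [show npr 3 = 2 by decide +kernel]
      simp only [show Nat.factorial 3 = 6 by decide, show d + 9 - 1 = d + 8 by omega,
        show d + 9 - 2 = d + 7 by omega] at e
      by_contra h
      nlinarith [not_lt.1 h]
    · obtain ⟨d, rfl⟩ : ∃ d, m = d + 25 := ⟨m - 25, by omega⟩
      rw [show npr 5 = 3 by decide +kernel]
      simp only [show Nat.factorial 5 = 120 by decide, show d + 25 - 1 = d + 24 by omega,
        show d + 25 - 2 = d + 23 by omega, show d + 25 - 3 = d + 22 by omega,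
        show d + 25 - 4 = d + 21 by omega] at e
      by_contra h
      have h4 : (d + 21) * ((d + 21) * ((d + 21) * ((d + 21) * (d + 25)))) ≤ 120 * (d + 25) ^ 3 := by
        refine le_trans (le_trans ?_ e.le) (Nat.mul_le_mul_left 120 (not_lt.1 h))
        gcongr <;> omega
      have h5 : 11 * (d + 25) < (d + 21) ^ 2 := by nlinarith
      have h6 := Nat.pow_lt_pow_left h5 (show (2 : ℕ) ≠ 0 by norm_num)
      nlinarith [Nat.mul_lt_mul_of_pos_left h6 (show 0 < d + 25 by omega)]
    · obtain ⟨d, rfl⟩ : ∃ d, m = d + 49 := ⟨m - 49, by omega⟩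
      rw [show npr 7 = 4 by decide +kernel]
      simp only [show Nat.factorial 7 = 5040 by decide, show d + 49 - 1 = d + 48 by omega,
        show d + 49 - 2 = d + 47 by omega, show d + 49 - 3 = d + 46 by omega,
        show d + 49 - 4 = d + 45 by omega, show d + 49 - 5 = d + 44 by omega,
        show d + 49 - 6 = d + 43 by omega] at e
      by_contra h
      have h4 : (d + 43) * ((d + 43) * ((d + 43) * ((d + 43) * ((d + 43) * ((d + 43) * (d + 49))))))
          ≤ 5040 * (d + 49) ^ 4 := by
        refine le_trans (le_trans ?_ e.le) (Nat.mul_le_mul_left 5040 (not_lt.1 h))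
        gcongr <;> omega
      have h5 : 18 * (d + 49) < (d + 43) ^ 2 := by nlinarith
      have h6 := Nat.pow_lt_pow_left h5 (show (3 : ℕ) ≠ 0 by norm_num)
      nlinarith [Nat.mul_lt_mul_of_pos_left h6 (show 0 < d + 49 by omega)]

/-- Some prime divisor of `C(m,k)` exceeds `min k √m`. -/
theorem exists_large_prime {m k s : ℕ} (hs : 2 ≤ s) (hsq : s * s ≤ m) (hsk : s ≤ k) (hk : 2 * k ≤ m) :
    ∃ p, p.Prime ∧ p ∣ m.choose k ∧ s < p := by
  by_contra h
  push Not at h
  have hne : m.choose k ≠ 0 := (Nat.choose_pos (by omega)).ne'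
  have h1 : (m.choose k).primeFactors ⊆ (range (s + 1)).filter Nat.Prime := fun p hp => by
    have hp' := Nat.prime_of_mem_primeFactors hp
    have := h p hp' (Nat.dvd_of_mem_primeFactors hp)
    simp [hp']; omega
  have h2 : m.choose k ≤ m ^ npr s := by
    conv_lhs => rw [← Nat.prod_factorization_pow_eq_self hne]
    rw [Finsupp.prod, Nat.support_factorization]
    refine (Finset.prod_le_pow_card _ _ _ fun p _ => Nat.pow_factorization_choose_le (by omega)).trans ?_
    exact Nat.pow_le_pow_right (by omega) (card_le_card h1)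
  have := pow_npr_lt_choose hs hsq hsk hk
  omega

theorem top_prime {m k r : ℕ} (hm : 5 ≤ m) (hk1 : 1 ≤ k) (hk : 2 * k ≤ m) (hr : r.Prime)
    (hrd : r ∣ m.choose k) (hmax : ∀ p : ℕ, p.Prime → p ∣ m.choose k → p ≤ r) :
    m % r < k % r ∧ (r = 2 → m % 4 = 0) := by
  have hbig : k < r ∨ m < r * r := by
    rcases Nat.lt_or_ge (m.sqrt) k with h | h
    · refine Or.inr ?_
      obtain ⟨p, hp, hpd, hps⟩ := exists_large_prime (s := m.sqrt) (m := m) (k := k)
        (Nat.le_sqrt.2 (by omega)) (Nat.sqrt_le m) h.le hk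
      exact Nat.sqrt_lt.1 (hps.trans_le (hmax p hp hpd))
    · refine Or.inl ?_
      rcases Nat.lt_or_ge k 2 with h1 | h1
      · have := hr.two_le; omega
      · obtain ⟨p, hp, hpd, hps⟩ := exists_large_prime (s := k) (m := m) (k := k) h1
          (Nat.le_sqrt.1 h) le_rfl hk
        exact hps.trans_le (hmax p hp hpd)
  have hlt : m % r < k % r := by
    haveI := Fact.mk hr
    have h1 : r ∣ (m % r).choose (k % r) * (m / r).choose (k / r) :=
      (Nat.ModEq.dvd_iff Choose.choose_modEq_choose_mod_mul_choose_div_nat dvd_rfl).1 hrd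
    have hnd : ∀ a b : ℕ, a < r → b ≤ a → ¬ r ∣ a.choose b := fun a b ha hb hd => by
      have h2 := hd.trans (Dvd.intro _ (mul_assoc _ _ _).symm :
        a.choose b ∣ a.choose b * b.factorial * (a - b).factorial)
      rw [Nat.choose_mul_factorial_mul_factorial hb] at h2
      have := (hr.dvd_factorial).1 h2
      omega
    rcases hr.dvd_mul.1 h1 with h2 | h2
    · by_contra h
      exact hnd _ _ (Nat.mod_lt _ hr.pos) (not_lt.1 h) h2
    · rcases hbig with h | h
      · rw [Nat.div_eq_of_lt h, Nat.choose_zero_right] at h2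
        exact absurd (Nat.le_of_dvd one_pos h2) (by have := hr.two_le; omega)
      · exact absurd h2 (hnd _ _ ((Nat.div_lt_iff_lt_mul hr.pos).2 h) (Nat.div_le_div_right (by omega)))
  refine ⟨hlt, ?_⟩
  rintro rfl
  obtain rfl : k = 1 := by
    rcases hbig with h | h <;> omega
  rw [Nat.choose_one_right] at hrd hmax
  obtain ⟨i, hi⟩ := hrd
  by_contra h4
  obtain ⟨p, hp, hpd⟩ := Nat.exists_prime_and_dvd (show i ≠ 1 by omega)
  have := hmax p hp (hpd.trans (Dvd.intro_left 2 hi.symm))
  have hp2 : p = 2 := le_antisymm this hp.two_le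
  obtain ⟨j, rfl⟩ := hp2 ▸ hpd
  omega

end Cfsg.Agent.AltDerange
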