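import Mathlib.GroupTheory.GroupAction.SubMulAction.Combination
import Mathlib.NumberTheory.Bertrand
import Cfsg.Agent.S0713
import Cfsg.Agent.Lib.AltDerange.Binomial
import Cfsg.Agent.Lib.Partition.PrimeFix

/-!
# Derangements of prime order for primitive actions of alternating and symmetric groups

* `exists_missing` : for `M` maximal in `G ≥ A_m` without containing `A_m`, an element of `A_m` of order
  the largest prime of `|A_m : A_m ∩ M|` has no `G`-conjugate in `M`
* `six` : the same for transitive actions of `A_6`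
-/

set_option autoImplicit false

namespace Cfsg.Agent.AltDerange

open Equiv MulAction
open scoped Pointwise

variable {m : ℕ}

local notation "A" => alternatingGroup (Fin m)

theorem card_sub_mul_relIndex (M : Subgroup (Perm (Fin m))) :
    Nat.card (M.subgroupOf A) * M.relIndex A = Nat.card A :=
  Subgroup.card_mul_index _

/-- An element of `A_m` of order `p` when `p` is odd and at most `m`. -/
theorem exists_alt_orderOf {p : ℕ} (hp : p.Prime) (hp2 : p ≠ 2) (hpm : p ≤ m) :
    ∃ t ∈ A, orderOf t = p := by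
  haveI := Fact.mk hp
  obtain ⟨t, ht, hts⟩ := UniformPartition.exists_perm (r := p) (X := Fin m) 1 (by simpa using hpm)
  have hne : t ≠ 1 := fun e => by rw [e] at hts; simp at hts; exact hp.ne_zero hts.symm
  refine ⟨t, ?_, orderOf_eq_prime ht hne⟩
  rcases Int.units_eq_one_or (Perm.sign t) with h | h
  · exact Perm.mem_alternatingGroup.2 h
  · exfalso
    have h2 := congrArg Perm.sign ht
    rw [map_pow, map_one, h, (hp.odd_of_ne_two hp2).neg_one_pow] at h2
    exact absurd h2 (by decide)

/-- If no element of prime order above `c` lies in `M`, the largest prime of the index is above `c`. -/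
theorem of_bound (G M : Subgroup (Perm (Fin m))) {r : ℕ} (hr : r.Prime)
    (hrd : r ∣ M.relIndex A) (hmax : ∀ p : ℕ, p.Prime → p ∣ M.relIndex A → p ≤ r) {c : ℕ}
    (hc1 : 1 < c) (hc : 2 * c ≤ m)
    (hM : ∀ p : ℕ, p.Prime → c < p → ∀ g ∈ M, g ^ p = 1 → g = 1) :
    ∃ t ∈ A, orderOf t = r ∧ ∀ x ∈ G, x * t * x⁻¹ ∉ M := by
  obtain ⟨p, hp, hcp, hpc⟩ := Nat.exists_prime_lt_and_le_two_mul c (by omega)
  haveI := Fact.mk hp
  obtain ⟨t, htA, hto⟩ := exists_alt_orderOf (m := m) hp (by omega) (by omega)
  have hpn : p ∣ M.relIndex A := by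
    have h1 : p ∣ Nat.card A := by
      rw [← hto, ← Subgroup.orderOf_mk t htA]
      exact orderOf_dvd_natCard _
    rw [← card_sub_mul_relIndex M] at h1
    refine (hp.dvd_mul.1 h1).resolve_left fun h => ?_
    obtain ⟨⟨⟨g, hgA⟩, hgM⟩, hg⟩ := exists_prime_orderOf_dvd_card' p h
    rw [Subgroup.orderOf_mk, Subgroup.orderOf_mk] at hg
    have := hM p hp hcp g hgM (by rw [← hg, pow_orderOf_eq_one])
    rw [this, orderOf_one] at hg
    exact hp.one_lt.ne hg
  have hcr : c < r := hcp.trans_le (hmax p hp hpn)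
  have hrm : r ≤ m := by
    have h1 : r ∣ Nat.card A := hrd.trans (Dvd.intro_left _ (card_sub_mul_relIndex M))
    have h2 : r ∣ m.factorial := by
      refine h1.trans ?_
      have h3 := Subgroup.card_subgroup_dvd_card (alternatingGroup (Fin m))
      rwa [Nat.card_perm, Nat.card_eq_fintype_card, Nat.card_eq_fintype_card, Fintype.card_fin,
        ← Nat.card_eq_fintype_card] at h3
    exact hr.dvd_factorial.1 h2
  obtain ⟨t', ht'A, ht'o⟩ := exists_alt_orderOf (m := m) hr (by omega) hrm
  refine ⟨t', ht'A, ht'o, fun x _ hxM => ?_⟩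
  have h1 := hM r hr hcr _ hxM (by
    rw [← MulAut.conj_apply, ← map_pow, ← ht'o, pow_orderOf_eq_one, map_one])
  have h2 : t' = 1 := by simpa using h1
  rw [h2, orderOf_one] at ht'o
  exact hr.one_lt.ne ht'o

theorem mod_le_of_invariant {r : ℕ} [Fact r.Prime] {τ : Perm (Fin m)} (hτ : τ ^ r = 1)
    (hs : τ.support.card = m / r * r) {Δ : Finset (Fin m)} (hΔ : ∀ x ∈ Δ, τ x ∈ Δ) :
    Δ.card % r ≤ m % r := by
  classical
  have hbij : ∀ x, τ x ∈ Δ ↔ x ∈ Δ := fun x => by
    refine ⟨fun hx => ?_, hΔ x⟩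
    have himg : Δ.map τ.toEmbedding = Δ := Finset.eq_of_subset_of_card_le (fun y hy => by
      obtain ⟨z, hz, rfl⟩ := Finset.mem_map.1 hy
      exact hΔ z hz) (by rw [Finset.card_map])
    rw [← himg] at hx
    obtain ⟨z, hz, hzx⟩ := Finset.mem_map.1 hx
    rwa [← τ.injective hzx]
  set η : Perm {x // x ∈ Δ} := τ.subtypePerm hbij with hη
  have hηr : η ^ r = 1 := by
    ext x
    rw [hη, Perm.subtypePerm_pow]
    simp [hτ]
  obtain ⟨j, -, hj⟩ := UniformPartition.cycleType_of_pow_eq_one η hηr
  have hmap : η.support.map (Function.Embedding.subtype _) = Δ ∩ τ.support := by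
    ext x
    simp [hη, Subtype.ext_iff, and_comm]
  have h1 : (Δ ∩ τ.support).card = j * r := by rw [← hmap, Finset.card_map, hj]
  have h2 : (Δ \ τ.support).card ≤ m % r := by
    refine (Finset.card_le_card (fun x hx => Finset.mem_compl.2 (Finset.mem_sdiff.1 hx).2)).trans ?_
    rw [Finset.card_compl, hs, Fintype.card_fin]
    have := Nat.div_add_mod' m r
    omega
  rw [← Finset.card_inter_add_card_sdiff Δ τ.support, h1, Nat.mul_add_mod']
  exact (Nat.mod_le _ _).trans h2

theorem of_invariant (hm : 5 ≤ m) (G M : Subgroup (Perm (Fin m))) (hAG : A ≤ G) (hMG : M ≤ G)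
    (hmax : ∀ X, M < X → X ≤ G → X = G) {r : ℕ} (hr : r.Prime)
    (hrd : r ∣ M.relIndex A) (hrmax : ∀ p : ℕ, p.Prime → p ∣ M.relIndex A → p ≤ r)
    {Δ : Finset (Fin m)} (hk1 : 1 ≤ Δ.card) (hk : 2 * Δ.card < m) (hΔ : ∀ g ∈ M, ∀ x ∈ Δ, g x ∈ Δ) :
    ∃ t ∈ A, orderOf t = r ∧ ∀ x ∈ G, x * t * x⁻¹ ∉ M := by
  classical
  haveI := Fact.mk hr
  set k := Δ.card with hkdef
  let p : Set.powersetCard (Fin m) k := ⟨Δ, rfl⟩
  set S := stabilizer (Perm (Fin m)) p with hS
  have htr : IsPretransitive A (Set.powersetCard (Fin m) k) :=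
    Set.powersetCard.isPretransitive_alternatingGroup (by simp; omega)
  have hMS : M ≤ S := fun g hg => by
    rw [hS, mem_stabilizer_iff]
    refine Subtype.ext (Finset.eq_of_subset_of_card_le ?_ ?_)
    · intro y hy
      change y ∈ g • Δ at hy
      obtain ⟨x, hx, rfl⟩ := Finset.mem_smul_finset.1 hy
      exact hΔ g hg x hx
    · show Δ.card ≤ (g • Δ).card
      rw [Finset.card_smul_finset]
  have hidx : S.relIndex A = m.choose k := by
    have h1 : S.subgroupOf A = stabilizer A p := by
      ext x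
      rfl
    rw [Subgroup.relIndex, h1, index_stabilizer_of_transitive, Set.powersetCard.card, Nat.card_eq_fintype_card,
      Fintype.card_fin]
  have hne : S ⊓ G ≠ G := by
    intro h
    have h1 : S.relIndex A = 1 := Subgroup.relIndex_eq_one.2 (hAG.trans (h ▸ inf_le_left))
    rw [hidx] at h1
    rcases Nat.choose_eq_one_iff.1 h1 with h2 | h2 <;> omega
  have hMeq : M = S ⊓ G := by
    by_contra h
    exact hne (hmax _ (lt_of_le_of_ne (le_inf hMS hMG) h) inf_le_right)
  have hn : M.relIndex A = m.choose k := by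
    rw [← hidx, hMeq]
    show (((S ⊓ G).subgroupOf A)).index = (S.subgroupOf A).index
    congr 1
    ext x
    exact ⟨fun h => h.1, fun h => ⟨h, hAG x.2⟩⟩
  rw [hn] at hrd hrmax
  obtain ⟨hlt, h4⟩ := top_prime hm hk1 hk.le hr hrd hrmax
  have hrm : r ≤ m := by
    refine hr.dvd_factorial.1 (hrd.trans ?_)
    rw [← Nat.choose_mul_factorial_mul_factorial (show k ≤ m by omega), mul_assoc]
    exact Dvd.intro _ rfl
  obtain ⟨t, ht, hts⟩ := UniformPartition.exists_perm (r := r) (X := Fin m) (m / r)
    (by simpa using Nat.div_mul_le_self m r)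
  have htA : t ∈ A := by
    obtain ⟨u, hu, hu'⟩ := UniformPartition.cycleType_of_pow_eq_one t ht
    have hue : u = m / r := Nat.eq_of_mul_eq_mul_right hr.pos (hu' ▸ hts)
    rw [Perm.mem_alternatingGroup, Perm.sign_of_cycleType, hu, Multiset.sum_replicate,
      Multiset.card_replicate, smul_eq_mul, hue]
    refine Even.neg_one_pow ?_
    rcases hr.eq_two_or_odd with h2 | h2
    · subst h2
      have := h4 rfl
      rw [Nat.even_iff]
      omega
    · rw [Nat.even_add, Nat.even_mul]
      simp [Nat.even_iff, h2]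
  have hne1 : t ≠ 1 := fun e => by
    rw [e] at hts
    have h1 : m / r * r = 0 := by simpa using hts.symm
    have := Nat.div_pos hrm hr.pos
    simp [hr.ne_zero] at h1
    omega
  refine ⟨t, htA, orderOf_eq_prime ht hne1, fun x _ hx => ?_⟩
  have h1 := mod_le_of_invariant (r := r) (τ := x * t * x⁻¹)
    (by rw [← MulAut.conj_apply, ← map_pow, ht, map_one])
    (by rw [Perm.support_conj, Finset.card_map, hts]) (hΔ _ hx)
  rw [← hkdef] at h1
  omega

/-- An element of prime order above the block size and the number of blocks fixes all points. -/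
theorem eq_one_of_block {M : Subgroup (Perm (Fin m))} (htr : IsPretransitive M (Fin m))
    {B : Set (Fin m)} (hB : IsBlock M B) (hne : B.Nonempty) {p : ℕ} (hp : p.Prime)
    (hBp : B.ncard < p) (hbp : (orbit M B).ncard < p) {g : Perm (Fin m)} (hgM : g ∈ M)
    (hgp : g ^ p = 1) : g = 1 := by
  classical
  haveI := Fact.mk hp
  set g' : M := ⟨g, hgM⟩ with hg'
  have hg'p : g' ^ p = 1 := Subtype.ext hgp
  -- orbits of size `p` do not fit
  have key : ∀ {α : Type} [MulAction M α] (a : α) (T : Set α), T.Finite →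
      (∀ n : ℕ, g' ^ n • a ∈ T) → T.ncard < p → g' • a = a := by
    intro α _ a T hfin hT hlt
    by_contra hne'
    have hinj : Set.InjOn (fun n : ℕ => g' ^ n • a) (Set.Iio p) := by
      intro i hi j hj hij
      have hd : Function.minimalPeriod (g' • ·) a = p := by
        refine Function.minimalPeriod_eq_prime ?_ hne'
        show (g' • ·)^[p] a = a
        rw [smul_iterate]
        simp [hg'p]
      refine Function.iterate_injOn_Iio_minimalPeriod (f := (g' • ·)) (x := a) (hd.symm ▸ hi)
        (hd.symm ▸ hj) ?_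
      simpa [smul_iterate] using hij
    have h1 := Set.ncard_le_ncard (t := T) (s := (fun n : ℕ => g' ^ n • a) '' Set.Iio p)
      (by rintro _ ⟨n, -, rfl⟩; exact hT n) hfin
    rw [Set.InjOn.ncard_image hinj] at h1
    simp at h1
    omega
  refine Perm.ext fun x => ?_
  obtain ⟨b, hb⟩ := hne
  obtain ⟨h, hh⟩ := htr.exists_smul_eq b x
  have hfix : g' • (h • B) = h • B := key (h • B) (orbit M B) (Set.toFinite _)
    (fun n => by rw [← mul_smul]; exact mem_orbit _ _) hbp
  have hxB : x ∈ h • B := hh ▸ Set.smul_mem_smul_set hb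
  refine key x (h • B) (Set.toFinite _) (fun n => ?_) (by rwa [Set.ncard_smul_set])
  have : g' ^ n • (h • B) = h • B := by
    induction n with
    | zero => rw [pow_zero, one_smul]
    | succ n ih => rw [pow_succ, mul_smul, hfix, ih]
  rw [← this]
  exact Set.smul_mem_smul_set hxB

theorem exists_missing (hm : 5 ≤ m) (G M : Subgroup (Perm (Fin m))) (hAG : A ≤ G) (hMG : M ≤ G)
    (hAM : ¬ A ≤ M) (hmax : ∀ X, M < X → X ≤ G → X = G) {r : ℕ} (hr : r.Prime)
    (hrd : r ∣ M.relIndex A) (hrmax : ∀ p : ℕ, p.Prime → p ∣ M.relIndex A → p ≤ r) :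
    ∃ t ∈ A, orderOf t = r ∧ ∀ x ∈ G, x * t * x⁻¹ ∉ M := by
  classical
  haveI : Nontrivial (Fin m) := Fin.nontrivial_iff_two_le.2 (by omega)
  by_cases htr : IsPretransitive M (Fin m)
  swap
  · -- an invariant set
    obtain ⟨a⟩ : Nonempty (Fin m) := inferInstance
    set O := (orbit M a).toFinset with hO
    have hinv : ∀ g ∈ M, ∀ x, x ∈ O ↔ g x ∈ O := fun g hg x => by
      rw [hO, Set.mem_toFinset, Set.mem_toFinset]
      exact ⟨fun h => mem_orbit_of_mem_orbit (⟨g, hg⟩ : M) h, fun h => by
        have := mem_orbit_of_mem_orbit (⟨g, hg⟩ : M)⁻¹ h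
        rwa [show g x = (⟨g, hg⟩ : M) • x from rfl, inv_smul_smul] at this⟩
    have hO1 : 1 ≤ O.card := Finset.card_pos.2 ⟨a, by simp [hO]⟩
    have hO2 : O.card < m := by
      refine lt_of_le_of_ne (by simpa using O.card_le_univ) fun h => htr ?_
      have hu : O = Finset.univ := Finset.eq_univ_of_card _ (by simpa using h)
      rw [isPretransitive_iff_orbit_eq_univ a]
      refine Set.eq_univ_of_forall fun x => ?_
      have hx : x ∈ O := hu ▸ Finset.mem_univ x
      rwa [hO, Set.mem_toFinset] at hx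
    rcases lt_trichotomy (2 * O.card) m with h | h | h
    · exact of_invariant hm G M hAG hMG hmax hr hrd hrmax hO1 h fun g hg x hx => (hinv g hg x).1 hx
    · refine of_bound G M hr hrd hrmax (c := O.card) (by omega) h.le fun p hp hcp g hg hgp => ?_
      haveI := Fact.mk hp
      refine Perm.ext fun x => ?_
      by_contra hx
      have hx' : x ∈ g.support := Perm.mem_support.2 hx
      obtain ⟨u, hu, hus⟩ := UniformPartition.cycleType_of_pow_eq_one g hgp
      have hsc : p ≤ (g.cycleOf x).support.card := by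
        have hmem := Perm.cycleOf_mem_cycleFactorsFinset_iff.2 hx'
        have h3 : (g.cycleOf x).support.card ∈ g.cycleType := by
          rw [Perm.cycleType_def]
          exact Multiset.mem_map_of_mem _ hmem
        rw [hu] at h3
        exact (Multiset.eq_of_mem_replicate h3).ge
      have hpow : ∀ (n : ℤ) (y : Fin m), y ∈ O ↔ (g ^ n) y ∈ O := fun n y =>
        hinv _ (zpow_mem hg n) y
      have hsame : ∀ y ∈ (g.cycleOf x).support, (x ∈ O ↔ y ∈ O) := fun y hy => by
        obtain ⟨⟨n, hn⟩, -⟩ := Perm.mem_support_cycleOf_iff.1 hy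
        rw [← hn]; exact hpow n x
      by_cases hxO : x ∈ O
      · have := Finset.card_le_card (fun y hy => (hsame y hy).1 hxO : (g.cycleOf x).support ⊆ O)
        omega
      · have h5 := Finset.card_le_card (fun y hy => Finset.mem_compl.2 fun h => hxO ((hsame y hy).2 h) :
          (g.cycleOf x).support ⊆ Oᶜ)
        rw [Finset.card_compl, Fintype.card_fin] at h5
        omega
    · have hc : Oᶜ.card = m - O.card := by rw [Finset.card_compl, Fintype.card_fin]
      exact of_invariant hm G M hAG hMG hmax hr hrd hrmax (Δ := Oᶜ) (by omega) (by omega)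
        fun g hg x hx => Finset.mem_compl.2 fun h => Finset.mem_compl.1 hx ((hinv g hg x).2 h)
  by_cases hprim : IsPreprimitive M (Fin m)
  swap
  · -- blocks
    obtain ⟨B, hB, hBt⟩ : ∃ B : Set (Fin m), IsBlock M B ∧ ¬ IsTrivialBlock B := by
      by_contra h
      push Not at h
      exact hprim ⟨fun {B} hB => h B hB⟩
    have hne : B.Nonempty := Set.nonempty_iff_ne_empty.2 fun h => hBt (Or.inl (by simp [h]))
    have ha : 1 < B.ncard := Set.one_lt_ncard_iff_nontrivial.2
      (Set.not_subsingleton_iff.1 fun h => hBt (Or.inl h))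
    have hb := hB.ncard_block_mul_ncard_orbit_eq hne
    rw [Nat.card_eq_fintype_card, Fintype.card_fin] at hb
    have ha' : B.ncard < m := by
      refine lt_of_le_of_ne (by simpa using Set.ncard_le_card B) fun h => hBt (Or.inr ?_)
      exact (Set.eq_univ_iff_ncard _).2 (by simpa using h)
    have hb1 : 1 < (orbit M B).ncard := by
      by_contra h
      interval_cases (orbit M B).ncard <;> omega
    refine of_bound G M hr hrd hrmax (c := max B.ncard (orbit M B).ncard) (by omega) ?_
      fun p hp hcp g hg hgp => eq_one_of_block htr hB hne hp (by omega) (by omega) hg hgp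
    rcases le_total B.ncard (orbit M B).ncard with h | h
    · rw [max_eq_right h]; nlinarith
    · rw [max_eq_left h]; nlinarith
  -- primitive
  have hno : ∀ (p : ℕ), p.Prime → p + 3 ≤ m → ∀ g : Perm (Fin m), g.IsCycle → g.support.card = p →
      g ∉ M := fun p hp hpm g hgc hgp hg =>
    hAM (S0713.result M hprim hp (by simpa using hm) (by simpa using hpm) hgc hgp hg)
  have hcycle : ∀ {p : ℕ}, p.Prime → p + 3 ≤ m → ∀ g : Perm (Fin m), g.cycleType = {p} → g ∉ M :=
    fun {p} hp hpm g hg => hno p hp hpm g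
      (Perm.card_cycleType_eq_one.1 (by simp [hg])) (by rw [← Perm.sum_cycleType, hg]; simp)
  have hAn : 3 ∣ M.relIndex A := by
    by_contra h3
    haveI := Fact.mk Nat.prime_three
    obtain ⟨P⟩ : Nonempty (Sylow 3 (M.subgroupOf A)) := inferInstance
    -- a Sylow subgroup of `A ∩ M` is one of `A`, so every 3-element is conjugate into `M`
    set P' : Subgroup A := (P : Subgroup (M.subgroupOf A)).map (M.subgroupOf A).subtype with hP'
    have hcard : Nat.card P' = 3 ^ (Nat.card A).factorization 3 := by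
      rw [hP', Subgroup.card_map_of_injective (Subgroup.subtype_injective _),
        P.card_eq_multiplicity, ← card_sub_mul_relIndex M,
        Nat.factorization_mul Nat.card_pos.ne'
          (fun h => h3 (by rw [h]; exact dvd_zero 3)), Finsupp.add_apply,
        Nat.factorization_eq_zero_of_not_dvd h3, add_zero]
    let Q : Sylow 3 A := Sylow.ofCard P' hcard
    obtain ⟨t, ht⟩ : ∃ t : Perm (Fin m), t.cycleType = {3} := by
      obtain ⟨t, ht⟩ := (Perm.exists_with_cycleType_iff (Fin m) (m := {3})).2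
        ⟨by simp; omega, by simp⟩
      exact ⟨t, ht⟩
    have htA : t ∈ A := Perm.IsThreeCycle.mem_alternatingGroup ht
    have ho : orderOf (⟨t, htA⟩ : A) = 3 := by
      rw [Subgroup.orderOf_mk, ← Perm.lcm_cycleType, ht]; rfl
    obtain ⟨Q', hQ'⟩ := (IsPGroup.of_card (p := 3) (n := 1)
      (by rw [Nat.card_zpowers, ho, pow_one]) : IsPGroup 3 (Subgroup.zpowers (⟨t, htA⟩ : A))).exists_le_sylow
    obtain ⟨x, hx⟩ := MulAction.exists_smul_eq A Q' Q
    have hmem : x * ⟨t, htA⟩ * x⁻¹ ∈ (Q : Subgroup A) := by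
      rw [← hx, Sylow.coe_subgroup_smul]
      exact ⟨⟨t, htA⟩, hQ' (Subgroup.mem_zpowers _), rfl⟩
    obtain ⟨⟨w, hw⟩, -, hwe⟩ := hmem
    have hM : (x : Perm (Fin m)) * t * (x : Perm (Fin m))⁻¹ ∈ M := by
      have h1 : (w : Perm (Fin m)) ∈ M := hw
      rw [show w = x * ⟨t, htA⟩ * x⁻¹ from hwe] at h1
      exact h1
    exact hAM (Perm.alternatingGroup_le_of_isPreprimitive_of_isThreeCycle_mem hprim
      (show Perm.IsThreeCycle ((x : Perm (Fin m)) * t * (x : Perm (Fin m))⁻¹) from
        Perm.cycleType_conj.trans ht) hM)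
  have hr3 : 3 ≤ r := hrmax 3 Nat.prime_three hAn
  haveI := Fact.mk hr
  have hrA : r ∣ Nat.card A := hrd.trans (Dvd.intro_left _ (card_sub_mul_relIndex M))
  have hAfac : Nat.card A ∣ m.factorial := by
    have h1 := Subgroup.card_subgroup_dvd_card (alternatingGroup (Fin m))
    rwa [Nat.card_perm, Nat.card_eq_fintype_card, Nat.card_eq_fintype_card, Fintype.card_fin,
      ← Nat.card_eq_fintype_card] at h1
  have hrm : r ≤ m := hr.dvd_factorial.1 (hrA.trans hAfac)
  rcases Nat.lt_or_ge m (2 * r) with h2 | h2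
  · -- `r²` does not divide `m!`
    obtain ⟨t, htA, hto⟩ := exists_alt_orderOf (m := m) hr (by omega) hrm
    refine ⟨t, htA, hto, fun x _ hxM => ?_⟩
    have hA' : x * t * x⁻¹ ∈ A := (inferInstance : (A).Normal).conj_mem t htA x
    have h1 : r ∣ Nat.card (M.subgroupOf A) := by
      have h := orderOf_dvd_natCard (⟨⟨x * t * x⁻¹, hA'⟩, hxM⟩ : M.subgroupOf A)
      rw [← Subgroup.orderOf_coe, ← Subgroup.orderOf_coe] at h
      change orderOf (x * t * x⁻¹) ∣ _ at h
      rwa [← MulAut.conj_apply, MulEquiv.orderOf_eq, hto] at h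
    have h3 : r ^ 2 ∣ m.factorial := by
      rw [pow_two]
      exact ((mul_dvd_mul h1 hrd).trans (dvd_of_eq (card_sub_mul_relIndex M))).trans hAfac
    have h4 := (hr.pow_dvd_iff_le_factorization m.factorial_ne_zero).1 h3
    have hlt : Nat.log r m < 2 :=
      Nat.log_lt_of_lt_pow (by omega) (by nlinarith)
    rw [Nat.factorization_factorial hr hlt] at h4
    simp at h4
    have : m / r < 2 := Nat.div_lt_of_lt_mul (by omega)
    omega
  · obtain ⟨t, ht, hts⟩ := UniformPartition.exists_perm (r := r) (X := Fin m) 1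
      (by simpa using hrm)
    obtain ⟨u, hu, hu'⟩ := UniformPartition.cycleType_of_pow_eq_one t ht
    have hu1 : u = 1 := Nat.eq_of_mul_eq_mul_right hr.pos (hu' ▸ hts)
    subst hu1
    have htc : t.cycleType = {r} := by rw [hu]; rfl
    have hne1 : t ≠ 1 := fun e => by rw [e] at htc; simp at htc
    have htA : t ∈ A := by
      rw [Perm.mem_alternatingGroup, Perm.sign_of_cycleType, htc, Multiset.sum_singleton,
        Multiset.card_singleton]
      refine Even.neg_one_pow ?_
      have := hr.eq_two_or_odd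
      rw [Nat.even_iff]
      omega
    refine ⟨t, htA, orderOf_eq_prime ht hne1, fun x _ hxM => ?_⟩
    exact hcycle hr (by omega) _ (Perm.cycleType_conj.trans htc) hxM

end Cfsg.Agent.AltDerange
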