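import Mathlib.GroupTheory.SpecificGroups.Alternating.Simple
import Cfsg.Agent.Lib.AltAut.Odd

/-!
# Derangements for transitive actions of `A_6`

* `six` : a transitive action of `A_6` has a derangement whose order is the largest prime of the degree
-/

set_option autoImplicit false

namespace Cfsg.Agent.AltDerange

open Equiv MulAction
open scoped Pointwise

local notation "H" => alternatingGroup (Fin 6)

theorem six {Ω : Type*} [Finite Ω] [MulAction (alternatingGroup (Fin 6)) Ω]
    [IsPretransitive (alternatingGroup (Fin 6)) Ω] (hΩ : 2 ≤ Nat.card Ω) {r : ℕ} (hr : r.Prime)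
    (hrd : r ∣ Nat.card Ω) (hmax : ∀ s : ℕ, s.Prime → s ∣ Nat.card Ω → s ≤ r) :
    ∃ t : alternatingGroup (Fin 6), orderOf t = r ∧ ∀ ω : Ω, t • ω ≠ ω := by
  classical
  haveI : IsSimpleGroup (alternatingGroup (Fin 6)) := alternatingGroup.isSimpleGroup (by simp)
  haveI := Fact.mk hr
  have hcA : Nat.card H = 360 := by
    rw [nat_card_alternatingGroup]
    simp [Nat.factorial]
  set n := Nat.card Ω with hn
  have hcard : ∀ a : Ω, Nat.card (stabilizer H a) * n = 360 := fun a => by
    rw [hn, ← index_stabilizer_of_transitive H a, Subgroup.card_mul_index, hcA]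
  obtain ⟨a⟩ : Nonempty Ω := (Nat.card_pos_iff.1 (by omega)).1
  haveI : Nontrivial Ω := Finite.one_lt_card_iff_nontrivial.1 (by omega)
  -- the action is faithful
  have hinj : Function.Injective (MulAction.toPermHom H Ω) := by
    rw [← MonoidHom.ker_eq_bot_iff]
    rcases (inferInstance : IsSimpleGroup H).eq_bot_or_eq_top_of_normal
      (MulAction.toPermHom H Ω).ker inferInstance with h | h
    · exact h
    · exfalso
      obtain ⟨b, hb⟩ := exists_ne a
      obtain ⟨g, hg⟩ := exists_smul_eq H a b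
      have hg1 : g ∈ (MulAction.toPermHom H Ω).ker := h ▸ Subgroup.mem_top g
      have := congrArg (fun σ : Perm Ω => σ a) (MonoidHom.mem_ker.1 hg1)
      simp at this
      exact hb (hg.symm.trans this)
  have hfac : 360 ∣ n.factorial := by
    have h := Subgroup.card_dvd_of_injective _ hinj
    rwa [Nat.card_perm, hcA] at h
  have hn6 : 6 ≤ n := by
    by_contra h
    push Not at h
    interval_cases n <;> revert hfac <;> decide
  have hn360 : n ∣ 360 := Dvd.intro_left _ (hcard a)
  have hr5 : r = 2 ∨ r = 3 ∨ r = 5 := by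
    have h1 : r ∣ 2 * 2 * 2 * 3 * 3 * 5 := hrd.trans hn360
    simp only [hr.dvd_mul, Nat.prime_dvd_prime_iff_eq hr Nat.prime_two,
      Nat.prime_dvd_prime_iff_eq hr Nat.prime_three, Nat.prime_dvd_prime_iff_eq hr Nat.prime_five] at h1
    tauto
  -- a prime to the order of the stabilizers
  have hprime : (∀ b : Ω, ¬ r ∣ Nat.card (stabilizer H b)) →
      ∃ t : H, orderOf t = r ∧ ∀ ω : Ω, t • ω ≠ ω := by
    intro hnd
    obtain ⟨t, ht⟩ := exists_prime_orderOf_dvd_card' r (G := H) (hcA ▸ hrd.trans hn360)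
    refine ⟨t, ht, fun ω h => hnd ω ?_⟩
    have h2 := orderOf_dvd_natCard (⟨t, h⟩ : stabilizer H ω)
    rw [← Subgroup.orderOf_coe] at h2
    change orderOf t ∣ _ at h2
    rwa [ht] at h2
  rcases hr5 with rfl | rfl | rfl
  · -- the degree is `8`
    have h3 : ¬ 3 ∣ n := fun h => absurd (hmax 3 Nat.prime_three h) (by omega)
    have h5 : ¬ 5 ∣ n := fun h => absurd (hmax 5 Nat.prime_five h) (by omega)
    have h8 : n ∣ 8 := by
      have hc : Nat.Coprime n 45 := by
        rw [show (45 : ℕ) = 3 * 3 * 5 from rfl, Nat.coprime_mul_iff_right, Nat.coprime_mul_iff_right]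
        exact ⟨⟨((Nat.prime_three.coprime_iff_not_dvd).2 h3).symm,
          ((Nat.prime_three.coprime_iff_not_dvd).2 h3).symm⟩,
          ((Nat.prime_five.coprime_iff_not_dvd).2 h5).symm⟩
      exact hc.dvd_of_dvd_mul_left (show n ∣ 45 * 8 from hn360)
    have hn8 : n = 8 := by have := Nat.le_of_dvd (by norm_num) h8; interval_cases n <;> omega
    refine hprime fun b hb => ?_
    have := hcard b
    rw [hn8] at this
    omega
  swap
  · refine hprime fun b hb => ?_
    obtain ⟨c, hc⟩ := hb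
    obtain ⟨d, hd⟩ := hrd
    have := hcard b
    rw [hc, hd] at this
    have : 25 * (c * d) = 360 := by rw [← this]; ring
    omega
  -- the two classes of order three
  have h9 : ∀ b : Ω, ¬ 9 ∣ Nat.card (stabilizer H b) := fun b ⟨c, hc⟩ => by
    obtain ⟨d, hd⟩ := hrd
    have := hcard b
    rw [hc, hd] at this
    have : 27 * (c * d) = 360 := by rw [← this]; ring
    omega
  obtain ⟨s1, hs1⟩ := (Perm.exists_with_cycleType_iff (Fin 6) (m := {3})).2 ⟨by simp, by simp⟩
  obtain ⟨s2, hs2⟩ := (Perm.exists_with_cycleType_iff (Fin 6) (m := {3, 3})).2 ⟨by simp, by simp⟩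
  have hs1A : s1 ∈ H := by
    rw [Perm.mem_alternatingGroup, Perm.sign_of_cycleType, hs1]; decide
  have hs2A : s2 ∈ H := by
    rw [Perm.mem_alternatingGroup, Perm.sign_of_cycleType, hs2]; decide
  have ho1 : orderOf (⟨s1, hs1A⟩ : H) = 3 := by
    rw [Subgroup.orderOf_mk, ← Perm.lcm_cycleType, hs1]; rfl
  have ho2 : orderOf (⟨s2, hs2A⟩ : H) = 3 := by
    rw [Subgroup.orderOf_mk, ← Perm.lcm_cycleType, hs2]; rfl
  by_contra hcon
  push Not at hcon
  obtain ⟨b, hb⟩ := hcon _ ho1
  obtain ⟨c, hc⟩ := hcon _ ho2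
  obtain ⟨x, hx⟩ := exists_smul_eq H c b
  set K := stabilizer H b
  let u : K := ⟨⟨s1, hs1A⟩, hb⟩
  have hv : x * ⟨s2, hs2A⟩ * x⁻¹ ∈ K := by
    rw [mem_stabilizer_iff, mul_smul, mul_smul, ← hx, inv_smul_smul, hc]
  let v : K := ⟨_, hv⟩
  have hou : orderOf u = 3 := by rw [← Subgroup.orderOf_coe]; exact ho1
  have hov : orderOf v = 3 := by
    rw [← Subgroup.orderOf_coe]
    show orderOf (x * (⟨s2, hs2A⟩ : H) * x⁻¹) = 3
    rw [← MulAut.conj_apply, MulEquiv.orderOf_eq]; exact ho2
  have h31 : (Nat.card K).factorization 3 = 1 := by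
    refine le_antisymm (not_lt.1 fun h => h9 b ?_) ?_
    · exact (Nat.Prime.pow_dvd_iff_le_factorization (k := 2) Nat.prime_three Nat.card_pos.ne').2 h
    · exact Nat.prime_three.factorization_pos_of_dvd Nat.card_pos.ne' (hou ▸ orderOf_dvd_natCard u)
  let P : Sylow 3 K := Sylow.ofCard (Subgroup.zpowers u) (by rw [Nat.card_zpowers, hou, h31, pow_one])
  let Q : Sylow 3 K := Sylow.ofCard (Subgroup.zpowers v) (by rw [Nat.card_zpowers, hov, h31, pow_one])
  obtain ⟨k, hk⟩ := MulAction.exists_smul_eq K P Q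
  have hvk : v ∈ (MulAut.conj k • (P : Subgroup K) : Subgroup K) := by
    rw [← Sylow.coe_subgroup_smul]
    show v ∈ ((k • P : Sylow 3 K) : Subgroup K)
    rw [hk]
    exact Subgroup.mem_zpowers v
  obtain ⟨w, hw, hwv⟩ := hvk
  obtain ⟨j, rfl⟩ := (Subgroup.mem_zpowers_iff).1 (show w ∈ Subgroup.zpowers u from hw)
  have hperm : ((k : H) : Perm (Fin 6)) * s1 ^ j * ((k : H) : Perm (Fin 6))⁻¹ =
      (x : Perm (Fin 6)) * s2 * (x : Perm (Fin 6))⁻¹ :=
    congrArg (fun z : K => ((z : H) : Perm (Fin 6))) hwv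
  have hct := congrArg Perm.cycleType hperm
  rw [Perm.cycleType_conj, Perm.cycleType_conj, hs2] at hct
  -- a power of a three-cycle moves at most three points
  have hle := Finset.card_le_card (Perm.support_zpow_le s1 j)
  rw [← Perm.sum_cycleType, ← Perm.sum_cycleType, hct, hs1] at hle
  simp at hle

end Cfsg.Agent.AltDerange
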